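import Cfsg.Agent.H777.Ore.Base
import Cfsg.Agent.H134.War

/-!
# Products of two `k`-th powers (S2453, sporadic part)

`IsP k g` : `g = a ^ k * b ^ k`; `AllP k G` : every element is of this form (the row predicate is
`AllP 2 G`, for the Monster also `AllP 3 G`).
-/

set_option autoImplicit false

namespace Cfsg.Agent.H134.Sq

/-- `g` is a product of two `k`-th powers. -/
def IsP {G : Type*} [Group G] (k : ℕ) (g : G) : Prop := ∃ a b : G, g = a ^ k * b ^ k

/-- Every element is a product of two `k`-th powers. -/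
def AllP (k : ℕ) (G : Type*) [Group G] : Prop := ∀ g : G, IsP k g

variable {G H : Type*} [Group G] [Group H] {k : ℕ}

theorem AllP.kl (h : AllP k G) : War.KL G k k := h

theorem isP_one : IsP k (1 : G) := ⟨1, 1, by simp⟩

theorem IsP.map {g : G} (f : G →* H) (h : IsP k g) : IsP k (f g) := by
  obtain ⟨a, b, rfl⟩ := h
  exact ⟨f a, f b, by simp only [map_mul, map_pow]⟩

theorem IsP.conj {g : G} (h : IsP k g) (x : G) : IsP k (x * g * x⁻¹) := by
  have := IsP.map (MulAut.conj x).toMonoidHom h
  simpa using this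

theorem IsP.of_conj {g : G} (x : G) (h : IsP k (x * g * x⁻¹)) : IsP k g := by
  have := h.conj x⁻¹
  rwa [show x⁻¹ * (x * g * x⁻¹) * x⁻¹⁻¹ = g by group] at this

theorem IsP.of_isConj {g g' : G} (h : IsP k g) (e : IsConj g g') : IsP k g' := by
  obtain ⟨x, rfl⟩ := isConj_iff.1 e
  exact h.conj x

theorem IsP.inv {g : G} (h : IsP k g) : IsP k g⁻¹ := by
  obtain ⟨a, b, rfl⟩ := h
  exact ⟨b⁻¹, a⁻¹, by simp only [inv_pow, mul_inv_rev]⟩

/-- A product of two `k`-th powers of a subgroup. -/
theorem IsP.of_sub (K : Subgroup G) {g : G} (hg : g ∈ K) (h : IsP k (⟨g, hg⟩ : K)) : IsP k g := by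
  have := IsP.map K.subtype h
  simpa using this

theorem AllP.of_mem (K : Subgroup G) (h : AllP k K) {g : G} (hg : g ∈ K) : IsP k g :=
  IsP.of_sub K hg (h _)

theorem AllP.congr (e : G ≃* H) (h : AllP k G) : AllP k H := by
  intro x
  have := IsP.map e.toMonoidHom (h (e.symm x))
  simpa using this

theorem AllP.of_surjective (f : G →* H) (hf : Function.Surjective f) (h : AllP k G) :
    AllP k H := by
  intro x
  obtain ⟨y, rfl⟩ := hf x
  exact (h y).map f

theorem AllP.of_range (f : H →* G) (h : AllP k H) {g : G} (hg : g ∈ f.range) : IsP k g := by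
  obtain ⟨y, rfl⟩ := hg
  exact (h y).map f

/-- Products of commuting pairs. -/
theorem isP_mul_of_commute {g h a b c d : G} (hg : g = a ^ k * b ^ k) (hh : h = c ^ k * d ^ k)
    (hac : Commute a c) (had : Commute a d) (hbc : Commute b c) (hbd : Commute b d) :
    IsP k (g * h) := by
  refine ⟨a * c, b * d, ?_⟩
  rw [hg, hh, hac.mul_pow, hbd.mul_pow]
  have h1 : Commute (b ^ k) (c ^ k) := hbc.pow_pow k k
  calc a ^ k * b ^ k * (c ^ k * d ^ k) = a ^ k * (b ^ k * c ^ k) * d ^ k := by
        simp only [mul_assoc]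
    _ = a ^ k * (c ^ k * b ^ k) * d ^ k := by rw [h1.eq]
    _ = _ := by simp only [mul_assoc]

/-- An element of order prime to `k` is a `k`-th power of one of its powers. -/
theorem exists_zpowers_pow {x : G} (h : (orderOf x).Coprime k) :
    ∃ y ∈ Subgroup.zpowers x, y ^ k = x := by
  obtain ⟨m, hm⟩ := exists_pow_eq_self_of_coprime (x := x) (n := k) h.symm
  exact ⟨x ^ m, Subgroup.npow_mem_zpowers x m, by rw [← pow_mul, mul_comm, pow_mul, hm]⟩

theorem isP_of_coprime {x : G} (h : (orderOf x).Coprime k) : IsP k x := by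
  obtain ⟨y, -, hy⟩ := exists_zpowers_pow h
  exact ⟨y, 1, by rw [hy]; simp⟩

/-- A product of two elements of order prime to `k`. -/
theorem isP_of_mul {g x y : G} (e : g = x * y) (hx : (orderOf x).Coprime k)
    (hy : (orderOf y).Coprime k) : IsP k g := by
  obtain ⟨a, -, ha⟩ := exists_zpowers_pow hx
  obtain ⟨b, -, hb⟩ := exists_zpowers_pow hy
  exact ⟨a, b, by rw [e, ha, hb]⟩

/-- A product of a conjugate of `x` and a conjugate of `y`, both of order prime to `k` (the
output of the sieve `H65.Ore.SC.prd`). -/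
theorem isP_of_prd {g x y : G} (h : ∃ a b : G, g = a * x * a⁻¹ * (b * y * b⁻¹))
    (hx : (orderOf x).Coprime k) (hy : (orderOf y).Coprime k) : IsP k g := by
  obtain ⟨a, b, e⟩ := h
  have key : ∀ z w : G, orderOf (z * w * z⁻¹) = orderOf w := by
    intro z w
    rw [← MulAut.conj_apply, MulEquiv.orderOf_eq]
  exact isP_of_mul e (by rwa [key]) (by rwa [key])

/-- `t` a product of two `k`-th powers of elements commuting with `s`, `s` of order prime to
`k`: then `t * s` is a product of two `k`-th powers. -/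
theorem isP_mul_right {t s a b : G} (e : t = a ^ k * b ^ k) (ha : Commute a s)
    (hb : Commute b s) (hs : (orderOf s).Coprime k) : IsP k (t * s) := by
  obtain ⟨y, hy, hys⟩ := exists_zpowers_pow hs
  obtain ⟨n, rfl⟩ := Subgroup.mem_zpowers_iff.1 hy
  refine ⟨a, b * s ^ n, ?_⟩
  have h1 : Commute b (s ^ n) := hb.zpow_right n
  rw [h1.mul_pow, hys, e, mul_assoc]

/-- The same with the centralizer as a group. -/
theorem isP_of_centralizer {t s : G} (ht : t ∈ Subgroup.centralizer ({s} : Set G))
    (h : IsP k (⟨t, ht⟩ : Subgroup.centralizer ({s} : Set G))) (hs : (orderOf s).Coprime k) :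
    IsP k (t * s) := by
  obtain ⟨⟨a, ha⟩, ⟨b, hb⟩, e⟩ := h
  have e' : t = a ^ k * b ^ k := congrArg Subtype.val e
  refine isP_mul_right e' ?_ ?_ hs
  · exact ((Subgroup.mem_centralizer_iff.1 ha) s rfl).symm
  · exact ((Subgroup.mem_centralizer_iff.1 hb) s rfl).symm

/-- A commutator with an entry of order prime to `k`. -/
theorem isP_of_comm {r v : G} (hr : (orderOf r).Coprime k) : IsP k (r * v * r⁻¹ * v⁻¹) := by
  have key : orderOf (v * r⁻¹ * v⁻¹) = orderOf r := by
    rw [← MulAut.conj_apply, MulEquiv.orderOf_eq, orderOf_inv]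
  exact isP_of_mul (x := r) (y := v * r⁻¹ * v⁻¹) (by group) hr (by rwa [key])

/-- Squares: the product of two conjugates of one element is a product of two squares. -/
theorem isP_two_of_conj (c y : G) : IsP 2 (c * (y⁻¹ * c * y)) := by
  refine ⟨c * y⁻¹, y, ?_⟩
  simp only [pow_two]
  group

/-- Squares: a commutator with a real entry. -/
theorem isP_two_of_real {a b u : G} (hu : u * a * u⁻¹ = a⁻¹) : IsP 2 (a * b * a⁻¹ * b⁻¹) := by
  have := isP_two_of_conj a ((b * u)⁻¹)
  rw [inv_inv] at this
  have e : a * (b * u * a * (b * u)⁻¹) = a * b * a⁻¹ * b⁻¹ := by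
    calc a * (b * u * a * (b * u)⁻¹) = a * b * (u * a * u⁻¹) * b⁻¹ := by group
      _ = _ := by rw [hu]
  rwa [e] at this

/-- `t` in a four group on which `r`, of order prime to `k`, acts by a `3`-cycle
(`t = r * v * r⁻¹ * v⁻¹`). -/
theorem isP_of_three {t v r : G} (hr : (orderOf r).Coprime k) (e : t = r * v * r⁻¹ * v⁻¹) :
    IsP k t := by
  rw [e]
  exact isP_of_comm hr

end Cfsg.Agent.H134.Sq
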